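import Cfsg.Agent.AutPSL.FieldAut
set_option autoImplicit false

/-!
The order of `Aut PSL_n(q)`.
-/

namespace CfsgLib.AutPSL

open Matrix

variable {F : Type*} [Field F] {n : ℕ}

theorem card_range_conjPSL (hn : 2 ≤ n) :
    Nat.card (conjPSL (F := F) (n := n)).range = Nat.card (ProjGenLinGroup (Fin n) F) := by
  haveI : NeZero n := ⟨by omega⟩
  have hk : (conjPSL (F := F) (n := n)).ker = Subgroup.center (GL (Fin n) F) := by
    ext g
    rw [MonoidHom.mem_ker, conjPSL_eq_one_iff hn, GeneralLinearGroup.center_eq_range_scalar]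
    constructor
    · rintro ⟨a, ha⟩
      have h0 : a ≠ 0 := by
        rintro rfl
        rw [zero_smul] at ha
        exact Units.ne_zero g ha
      exact ⟨Units.mk0 a h0, Units.ext (by rw [ha]; simp [GeneralLinearGroup.scalar, smul_one_eq_diagonal])⟩
    · rintro ⟨u, rfl⟩
      exact ⟨u, by simp [GeneralLinearGroup.scalar, smul_one_eq_diagonal]⟩
  rw [← Nat.card_congr (QuotientGroup.quotientKerEquivRange (conjPSL (F := F) (n := n))).toEquiv, hk]
  rfl

theorem card_mulAut [Finite F] (hn : 2 ≤ n) :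
    Nat.card (MulAut (ProjectiveSpecialLinearGroup (Fin n) F)) =
      (if n = 2 then 1 else 2) * Nat.card (RingAut F) * Nat.card (ProjGenLinGroup (Fin n) F) := by
  haveI : NeZero n := ⟨by omega⟩
  rw [← card_range_conjPSL hn]
  rcases (show n = 2 ∨ 3 ≤ n by omega) with rfl | h3
  · rw [if_pos rfl, one_mul, mul_comm, ← Nat.card_prod]
    symm
    refine Nat.card_congr (Equiv.ofBijective (fun x : (conjPSL (F := F) (n := 2)).range × RingAut F => x.1.1 * fieldPSL x.2) ⟨?_, ?_⟩)
    · rintro ⟨⟨_, g, rfl⟩, σ⟩ ⟨⟨_, g', rfl⟩, σ'⟩ h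
      have h1 : conjPSL (g'⁻¹ * g) = fieldPSL (σ' * σ⁻¹) := by
        rw [map_mul, map_inv, map_mul, map_inv, inv_mul_eq_iff_eq_mul, ← mul_assoc, eq_mul_inv_iff_mul_eq]
        exact h
      have h2 := (eq_one_of_conjPSL_eq_fieldPSL hn h1).2
      rw [mul_inv_eq_one] at h2
      subst h2
      exact Prod.ext (Subtype.ext (mul_right_cancel h)) rfl
    · intro α
      obtain ⟨g, σ, h⟩ := CfsgLib.SL2.exists_decomposition α
      exact ⟨⟨⟨_, g, rfl⟩, σ⟩, by rw [h, conjPSL_eq_sl2, fieldPSL_eq_sl2]⟩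
  · rw [if_neg (by omega), mul_comm, mul_comm 2]
    have h2 : 2 = Nat.card Bool := by simp
    rw [h2, ← Nat.card_prod, ← Nat.card_prod]
    symm
    refine Nat.card_congr (Equiv.ofBijective (fun x : (conjPSL (F := F) (n := n)).range × RingAut F × Bool =>
      x.1.1 * fieldPSL x.2.1 * graphIf x.2.2) ⟨?_, ?_⟩ |> fun e => (Equiv.refl _).trans e)
    · rintro ⟨⟨_, g, rfl⟩, σ, b⟩ ⟨⟨_, g', rfl⟩, σ', b'⟩ h
      obtain ⟨h1, h2, -⟩ := decomposition_unique h3 h
      subst h1; subst h2
      exact Prod.ext (Subtype.ext (mul_right_cancel (mul_right_cancel h))) rfl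
    · intro α
      obtain ⟨g, σ, b, rfl⟩ := exists_decomposition h3 α
      exact ⟨⟨⟨_, g, rfl⟩, σ, b⟩, rfl⟩

theorem card_ringAut (F : Type*) [Field F] [Fintype F] {p f : ℕ} [Fact p.Prime] (hF : Fintype.card F = p ^ f) :
    Nat.card (RingAut F) = f := by
  haveI : CharP F p := charP_of_card_eq_prime_pow hF
  letI := ZMod.algebra F p
  have hfr : Module.finrank (ZMod p) F = f := by
    have h := Module.card_eq_pow_finrank (K := ZMod p) (V := F)
    rw [hF, ZMod.card] at h
    exact (Nat.pow_right_injective (Fact.out : p.Prime).two_le h).symm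
  let eR : (F ≃ₐ[ZMod p] F) ≃* RingAut F :=
    { toFun := fun a => a.toRingEquiv
      invFun := fun σ => AlgEquiv.ofRingEquiv (f := σ) (fun x => by
        exact RingHom.congr_fun (RingHom.ext_zmod ((σ : F →+* F).comp (algebraMap (ZMod p) F)) (algebraMap (ZMod p) F)) x)
      left_inv := fun a => AlgEquiv.ext fun x => rfl
      right_inv := fun σ => RingEquiv.ext fun x => rfl
      map_mul' := fun a b => rfl }
  rw [← Nat.card_congr eR.toEquiv, IsGalois.card_aut_eq_finrank, hfr]

end CfsgLib.AutPSL
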