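import Cfsg.Agent.AutPSL.Descent
import Cfsg.Agent.Unitary.Basic
set_option autoImplicit false

/-!
Elements of prime order in the cosets `Inndiag · φ` and `Inndiag · φ ι` are conjugate to the standard ones.
-/

namespace CfsgLib.AutPSL

open Matrix

variable {F : Type*} [Field F] [Finite F] {n : ℕ}

/-- Lang's theorem for a standard field automorphism. -/
theorem exists_conj_field (hn : 2 ≤ n) (g : GL (Fin n) F) (σ : RingAut F)
    (h : (conjPSL g * fieldPSL σ) ^ orderOf σ = (1 : MulAut (ProjectiveSpecialLinearGroup (Fin n) F))) :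
    ∃ k : GL (Fin n) F, conjPSL g * fieldPSL σ = conjPSL k * fieldPSL σ * (conjPSL k)⁻¹ := by
  haveI : NeZero n := ⟨by omega⟩
  set r := orderOf σ with hr
  rw [pow_conj_mul_field, hr, pow_orderOf_eq_one, map_one, mul_one, conjPSL_eq_one_iff hn] at h
  obtain ⟨c, hc⟩ := h
  have hc0 : c ≠ 0 := by
    rintro rfl
    rw [zero_smul] at hc
    exact Units.ne_zero _ hc
  have hfix : σ c = c := by
    have h1 := fieldGL_normSeq g σ (e := r) (by rw [hr, pow_orderOf_eq_one])
    have h2 : (fieldGL σ (normSeq g σ r)).1 0 0 = (g⁻¹ * normSeq g σ r * g).1 0 0 := by rw [h1]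
    change σ ((normSeq g σ r).1 0 0) = _ at h2
    rw [Units.val_mul, Units.val_mul, hc, Matrix.mul_smul, Matrix.smul_mul, Matrix.mul_one, ← Units.val_mul,
      inv_mul_cancel, Units.val_one] at h2
    simpa using h2
  obtain ⟨a, ha⟩ := exists_norm_eq σ (c := Units.mk0 c hc0) hfix
  set g' := GeneralLinearGroup.scalar (Fin n) a⁻¹ * g with hg'
  have hN : normSeq g' σ r = 1 := by
    rw [hg', normSeq_mul_scalar, map_inv, hr, ha]
    refine Units.ext ?_
    rw [Units.val_mul, hc, map_inv]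
    simp [GeneralLinearGroup.scalar, smul_one_eq_diagonal, hc0]
  obtain ⟨k, hk⟩ := exists_coboundary σ g' hN
  refine ⟨k, ?_⟩
  have hgg : conjPSL g = conjPSL g' := conjPSL_eq_of_smul (c := (a : F)) (by
    rw [hg', Units.val_mul]
    ext i j
    simp [GeneralLinearGroup.scalar, Matrix.diagonal_mul])
  rw [hgg, hk, map_mul, map_inv, mul_assoc, mul_assoc, mul_right_inj, inv_mul_eq_iff_eq_mul, ← mul_assoc,
    eq_mul_inv_iff_mul_eq, fieldPSL_mul_conjPSL]

theorem sq_conj_graphField (g : GL (Fin n) F) (σ : RingAut F) :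
    (conjPSL g * fieldPSL σ * graphPSL) ^ 2 =
      (conjPSL (g * fieldGL σ (graphGL g)) * fieldPSL (σ * σ) : MulAut (ProjectiveSpecialLinearGroup (Fin n) F)) := by
  calc (conjPSL g * fieldPSL σ * graphPSL) ^ 2
      = conjPSL g * fieldPSL σ * (graphPSL * conjPSL g) * (fieldPSL σ * graphPSL) := by rw [sq]; group
    _ = conjPSL g * fieldPSL σ * (conjPSL (graphGL g) * graphPSL) * (graphPSL * fieldPSL σ) := by
        rw [graphPSL_mul_conjPSL, graphPSL_mul_fieldPSL]
    _ = conjPSL g * (fieldPSL σ * conjPSL (graphGL g)) * (graphPSL * graphPSL) * fieldPSL σ := by group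
    _ = _ := by
        rw [fieldPSL_mul_conjPSL, graphPSL_mul_self, mul_one, map_mul, map_mul]
        group

theorem toRingHom_ne_id {σ : RingAut F} (h : σ ≠ 1) : (σ : F →+* F) ≠ RingHom.id F := fun e =>
  h (RingEquiv.ext fun x => RingHom.congr_fun e x)

/-- An involution `conj g ∘ φ ∘ ι` is conjugate to `φ ∘ ι`. -/
theorem exists_conj_graphField (hn : 3 ≤ n) (g : GL (Fin n) F) (σ : RingAut F) (hσ : σ ≠ 1) (hσ2 : σ * σ = 1)
    (h : (conjPSL g * fieldPSL σ * graphPSL) ^ 2 = (1 : MulAut (ProjectiveSpecialLinearGroup (Fin n) F))) :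
    ∃ k : GL (Fin n) F,
      conjPSL g * fieldPSL σ * graphPSL = conjPSL k * (fieldPSL σ * graphPSL) * (conjPSL k)⁻¹ := by
  haveI : NeZero n := ⟨by omega⟩
  rw [sq_conj_graphField, hσ2, map_one, mul_one, conjPSL_eq_one_iff (by omega)] at h
  obtain ⟨l, hl⟩ := h
  set s : F →+* F := (σ : F →+* F) with hs
  have hs2 : ∀ x, s (s x) = x := fun x => RingEquiv.congr_fun hσ2 x
  have hsne := toRingHom_ne_id hσ
  -- `g` is Hermitian up to a scalar
  have hherm : g.1 = l • CfsgLib.Unitary.adj s g.1 := by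
    have h1 : ((g⁻¹ : GL (Fin n) F).1ᵀ).map s * CfsgLib.Unitary.adj s g.1 = 1 := by
      rw [CfsgLib.Unitary.adj, Matrix.transpose_map, ← Matrix.transpose_mul, ← Matrix.map_mul, ← Units.val_mul,
        mul_inv_cancel, Units.val_one, Matrix.map_one _ (map_zero s) (map_one s), Matrix.transpose_one]
    have h2 := congrArg (fun M => M * CfsgLib.Unitary.adj s g.1) hl
    simp only [Units.val_mul, Matrix.mul_assoc, Matrix.smul_mul, Matrix.one_mul] at h2
    change g.1 * (((g⁻¹ : GL (Fin n) F).1ᵀ).map s * _) = _ at h2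
    rwa [h1, Matrix.mul_one] at h2
  have hl0 : l ≠ 0 := by
    rintro rfl
    rw [zero_smul] at hherm
    exact Units.ne_zero g hherm
  have hll : l * s l = 1 := by
    obtain ⟨j, hj⟩ : ∃ j, g.1 0 j ≠ 0 := by
      by_contra h'
      push Not at h'
      exact g.det_ne_zero (Matrix.det_eq_zero_of_row_eq_zero 0 h')
    have e1 := congrFun (congrFun hherm 0) j
    have e2 := congrFun (congrFun hherm j) 0
    simp only [CfsgLib.Unitary.adj, Matrix.smul_apply, Matrix.transpose_apply, Matrix.map_apply, smul_eq_mul] at e1 e2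
    rw [e2, map_mul, hs2, ← mul_assoc] at e1
    exact (mul_eq_right₀ hj).mp e1.symm
  have hord : orderOf σ = 2 := orderOf_eq_prime (by rw [sq]; exact hσ2) hσ
  obtain ⟨b, hb⟩ := exists_div_of_norm_one σ (a := Units.mk0 l hl0) (by
    refine Units.ext ?_
    rw [hord, normHom_val, Finset.prod_range_succ, Finset.prod_range_one, pow_zero, pow_one, RingAut.one_apply]
    exact hll)
  change l * s b = b at hb
  have hb0 : (b : F) ≠ 0 := b.ne_zero
  set G' := (b : F)⁻¹ • g.1 with hG'
  have hG'h : CfsgLib.Unitary.adj s G' = G' := by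
    have e : CfsgLib.Unitary.adj s g.1 = l⁻¹ • g.1 := by
      conv_rhs => rw [hherm, smul_smul, inv_mul_cancel₀ hl0, one_smul]
    rw [hG', CfsgLib.Unitary.adj_smul, e, smul_smul, map_inv₀, ← mul_inv, mul_comm (s (b : F)), hb]
  have hG'd : G'.det ≠ 0 := by
    rw [hG', Matrix.det_smul]
    exact mul_ne_zero (pow_ne_zero _ (inv_ne_zero hb0)) g.det_ne_zero
  obtain ⟨P, hP⟩ := CfsgLib.Unitary.exists_congr s hs2 hsne n G' hG'h hG'd
  have hPd : (CfsgLib.Unitary.adj s P).det ≠ 0 := by
    intro h0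
    apply hG'd
    rw [← hP, Matrix.det_mul, h0, zero_mul]
  set k := GeneralLinearGroup.mkOfDetNeZero _ hPd with hk
  refine ⟨k, ?_⟩
  have hgk : conjPSL g = conjPSL (k * fieldGL σ (graphGL k⁻¹)) := by
    refine conjPSL_eq_of_smul (c := (b : F)) ?_
    have h3 : (k * fieldGL σ (graphGL k⁻¹)).1 = G' := by
      change CfsgLib.Unitary.adj s P * (((k⁻¹⁻¹ : GL (Fin n) F)).1ᵀ).map s = G'
      rw [inv_inv]
      change CfsgLib.Unitary.adj s P * ((CfsgLib.Unitary.adj s P)ᵀ).map s = G'
      rw [← hP]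
      congr 1
      rw [CfsgLib.Unitary.adj, Matrix.transpose_transpose, Matrix.map_map]
      ext i j
      exact hs2 (P i j)
    rw [h3, hG', smul_smul, mul_inv_cancel₀ hb0, one_smul]
  rw [hgk, map_mul, ← map_inv, mul_assoc (conjPSL k), mul_assoc (conjPSL k),
    mul_assoc (conjPSL k) (fieldPSL σ * graphPSL), mul_right_inj, mul_assoc (fieldPSL σ), graphPSL_mul_conjPSL,
    ← mul_assoc, fieldPSL_mul_conjPSL, mul_assoc]

end CfsgLib.AutPSL
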