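import Cfsg.Agent.AutPSL.Coset
import Cfsg.Agent.AutPSL.Card
set_option autoImplicit false

/-!
Transfer along conjugation, and the parity of graph-field automorphisms of prime order.
-/

namespace CfsgLib.AutPSL

open Matrix

theorem isConjUnder_conj_iff {X : Type*} [Group X] (H : Subgroup X) [hH : H.Normal] (α x y : X) :
    Cfsg.IsConjUnder H (α * x * α⁻¹) (α * y * α⁻¹) ↔ Cfsg.IsConjUnder H x y := by
  constructor
  · rintro ⟨h, hh, e⟩
    refine ⟨α⁻¹ * h * α, by simpa using hH.conj_mem h hh α⁻¹, ?_⟩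
    have e' := congrArg (fun z => α⁻¹ * z * α) e
    calc y = α⁻¹ * (α * y * α⁻¹) * α := by group
      _ = _ := by rw [e']; group
  · rintro ⟨h, hh, e⟩
    exact ⟨α * h * α⁻¹, hH.conj_mem h hh α, by rw [e]; group⟩

variable {F : Type*} [Field F] [Finite F] {n : ℕ}

/-- A graph-field automorphism of prime order is an involution. -/
theorem graphField_prime_order [NeZero n] (hn : 3 ≤ n) (σ : RingAut F) {r : ℕ} (hr : r.Prime)
    (h : orderOf (fieldPSL σ * graphPSL : MulAut (ProjectiveSpecialLinearGroup (Fin n) F)) = r) :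
    r = 2 ∧ σ * σ = 1 := by
  obtain ⟨χ, -, -, hχ⟩ := exists_partHom (F := F) (n := n) hn
  have hv : χ (fieldPSL σ * graphPSL) = (σ, boolZ true) := by
    have := hχ 1 σ true
    rwa [map_one, one_mul, graphIf_true] at this
  have h1 := congrArg χ (h ▸ pow_orderOf_eq_one (fieldPSL σ * graphPSL : MulAut (ProjectiveSpecialLinearGroup (Fin n) F)))
  rw [map_pow, map_one, hv] at h1
  have h2 : boolZ true ^ r = 1 := congrArg Prod.snd h1
  have h3 : σ ^ r = 1 := congrArg Prod.fst h1
  have hr2 : r = 2 := by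
    rcases hr.eq_two_or_odd' with h' | h'
    · exact h'
    · exfalso
      obtain ⟨k, rfl⟩ := h'
      have hsq : boolZ true ^ 2 = 1 := by decide
      rw [pow_succ, pow_mul, hsq, one_pow, one_mul] at h2
      exact absurd (boolZ_eq_one.mp h2) (by decide)
  exact ⟨hr2, by rw [← sq, ← hr2]; exact h3⟩

end CfsgLib.AutPSL
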