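import Cfsg.Agent.AutPSL.AutOrder
set_option autoImplicit false

/-!
Galois descent for `GL_d` over a finite field: an element of norm one is `h (σ h)⁻¹`; the norm is onto
the fixed field.
-/

namespace CfsgLib.AutPSL

open Matrix

variable {F : Type*} [Field F] {d : ℕ}

/-- Speiser: norm one implies a coboundary. -/
theorem exists_coboundary [Finite F] (σ : RingAut F) (g : GL (Fin d) F)
    (hN : normSeq g σ (orderOf σ) = 1) : ∃ h : GL (Fin d) F, g = h * (fieldGL σ h)⁻¹ := by
  classical
  haveI : Finite (RingAut F) := Finite.of_injective (fun τ => ⇑τ) DFunLike.coe_injective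
  set r := orderOf σ with hr
  have hr0 : 0 < r := (isOfFinOrder_of_finite σ).orderOf_pos
  let φ : Fin r → (F →* F) := fun i => (RingEquiv.toRingHom (σ ^ (i : ℕ) : RingAut F)).toMonoidHom
  have hφ : Function.Injective φ := fun i j h => by
    refine Fin.ext (pow_injOn_Iio_orderOf (x := σ) i.isLt j.isLt ?_)
    exact RingEquiv.ext fun x => DFunLike.congr_fun h x
  have hLI := (linearIndependent_monoidHom F F).comp φ hφ
  let T : (Fin d → F) → (Fin d → F) := fun v =>
    ∑ i : Fin r, (normSeq g σ i).1 *ᵥ fun k => (σ ^ (i : ℕ)) (v k)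
  let R : Set (Fin d → F) := Set.range T
  have hfix : ∀ u ∈ R, g.1 *ᵥ (fun k => σ (u k)) = u := by
    rintro _ ⟨v, rfl⟩
    let b : ℕ → (Fin d → F) := fun i => (normSeq g σ i).1 *ᵥ fun k => (σ ^ i) (v k)
    have hstep : ∀ i, g.1 *ᵥ (fun k => σ (b i k)) = b (i + 1) := by
      intro i
      have h1 : (fun k => σ (b i k)) = (fieldGL σ (normSeq g σ i)).1 *ᵥ fun k => (σ ^ (i + 1)) (v k) := by
        funext k
        rw [pow_succ']
        exact RingHom.map_mulVec (σ : F →+* F) (normSeq g σ i).1 _ k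
      rw [h1, mulVec_mulVec]
      rfl
    have hT : T v = ∑ i ∈ Finset.range r, b i := Fin.sum_univ_eq_sum_range b r
    have h2 : (fun k => σ (T v k)) = ∑ i ∈ Finset.range r, (fun k => σ (b i k)) := by
      funext k
      rw [hT, Finset.sum_apply, map_sum, Finset.sum_apply]
    rw [h2, Matrix.mulVec_sum, Finset.sum_congr rfl fun i _ => hstep i, hT]
    have hb : b r = b 0 := by
      simp only [b, hN, normSeq]
      rw [hr, pow_orderOf_eq_one, pow_zero]
    obtain ⟨m, hm⟩ : ∃ m, r = m + 1 := ⟨r - 1, by omega⟩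
    rw [hm] at hb ⊢
    rw [Finset.sum_range_succ, hb, Finset.sum_range_succ' b m]
  have hspan : Submodule.span F R = ⊤ := by
    by_contra hne
    obtain ⟨f, hf0, hf⟩ := Submodule.exists_dual_map_eq_bot_of_lt_top (lt_top_iff_ne_top.mpr hne) inferInstance
    refine hf0 (LinearMap.ext fun v => ?_)
    let c : Fin r → F := fun i => f ((normSeq g σ i).1 *ᵥ fun k => (σ ^ (i : ℕ)) (v k))
    have hc : ∑ i, c i • ((φ i : F →* F) : F → F) = 0 := by
      funext a
      have h1 : f (T (a • v)) = 0 :=
        (Submodule.mem_bot F).mp (hf ▸ Submodule.mem_map_of_mem (Submodule.subset_span ⟨a • v, rfl⟩))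
      rw [Finset.sum_apply, Pi.zero_apply, ← h1, map_sum]
      refine Finset.sum_congr rfl fun i _ => ?_
      have : (fun k => (σ ^ (i : ℕ)) ((a • v) k)) = (σ ^ (i : ℕ)) a • fun k => (σ ^ (i : ℕ)) (v k) := by
        funext k
        simp
      rw [this, Matrix.mulVec_smul, map_smul]
      simp only [Pi.smul_apply, smul_eq_mul, c]
      exact mul_comm _ _
    have h0 := Fintype.linearIndependent_iff.mp hLI c hc ⟨0, hr0⟩
    have hid : (fun k => (σ ^ (0 : ℕ)) (v k)) = v := rfl
    simp only [c, normSeq, Units.val_one, one_mulVec, hid] at h0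
    rw [h0, LinearMap.zero_apply]
  let b := Module.Basis.ofSpan hspan.ge
  have hbR : Set.range b ⊆ R := Module.Basis.ofSpan_subset hspan.ge
  haveI : Fintype (((linearIndepOn_empty F (id : (Fin d → F) → (Fin d → F))).extend (Set.empty_subset R))) :=
    FiniteDimensional.fintypeBasisIndex b
  let b' := b.reindex (b.indexEquiv (Pi.basisFun F (Fin d)))
  have hb'R : ∀ k, b' k ∈ R := fun k => by
    refine hbR ?_
    exact ⟨_, (Module.Basis.reindex_apply b _ k).symm⟩
  let M : Matrix (Fin d) (Fin d) F := Matrix.of fun a k => b' k a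
  have hM : IsUnit M.det := by
    have h1 := (Pi.basisFun F (Fin d)).isUnit_det b'
    rw [Module.Basis.det_apply] at h1
    convert h1 using 2
    ext a k
    simp [M, Module.Basis.toMatrix_apply]
  refine ⟨Matrix.GeneralLinearGroup.mkOfDetNeZero M hM.ne_zero, ?_⟩
  rw [eq_mul_inv_iff_mul_eq]
  refine Units.ext (Matrix.ext fun a k => ?_)
  have := congrFun (hfix _ (hb'R k)) a
  exact this

/-- The scalar element of `GL₁`. -/
def oneByOne (a : Fˣ) : GL (Fin 1) F := GeneralLinearGroup.scalar (Fin 1) a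

theorem oneByOne_val (a : Fˣ) : (oneByOne a).1 0 0 = a := by
  simp [oneByOne, GeneralLinearGroup.scalar]

/-- The norm down to the fixed field of `σ`, on units. -/
def normHom (σ : RingAut F) (r : ℕ) : Fˣ →* Fˣ :=
  ∏ i ∈ Finset.range r, Units.map ((σ ^ i : RingAut F) : F →* F)

theorem normHom_val (σ : RingAut F) (r : ℕ) (a : Fˣ) :
    (normHom σ r a : F) = ∏ i ∈ Finset.range r, (σ ^ i) (a : F) := by
  simp [normHom, MonoidHom.finsetProd_apply]

theorem normSeq_scalar (σ : RingAut F) (a : Fˣ) :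
    ∀ k, normSeq (GeneralLinearGroup.scalar (Fin d) a) σ k = GeneralLinearGroup.scalar (Fin d) (normHom σ k a)
  | 0 => by simp [normSeq, normHom]
  | k + 1 => by
    have h : fieldGL σ (GeneralLinearGroup.scalar (Fin d) (normHom σ k a)) =
        GeneralLinearGroup.scalar (Fin d) (Units.map (σ : F →* F) (normHom σ k a)) := by
      refine Units.ext (Matrix.ext fun i j => ?_)
      change σ ((GeneralLinearGroup.scalar (Fin d) (normHom σ k a)).1 i j) = _
      simp [GeneralLinearGroup.scalar, Matrix.diagonal_apply, apply_ite σ]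
    rw [normSeq, normSeq_scalar σ a k, h, ← map_mul]
    congr 1
    refine Units.ext ?_
    rw [Units.val_mul, Units.coe_map, MonoidHom.coe_coe, normHom_val, normHom_val, map_prod,
      Finset.prod_range_succ', mul_comm, pow_zero, RingAut.one_apply]
    refine congrArg (· * (a : F)) (Finset.prod_congr rfl fun i _ => ?_)
    rw [pow_succ', RingAut.mul_apply]

theorem normSeq_mul_scalar (σ : RingAut F) (g : GL (Fin d) F) (a : Fˣ) :
    ∀ k, normSeq (GeneralLinearGroup.scalar (Fin d) a * g) σ k =
      GeneralLinearGroup.scalar (Fin d) (normHom σ k a) * normSeq g σ k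
  | 0 => by simp [normSeq, normHom]
  | k + 1 => by
    have hcomm : ∀ (c : Fˣ) (x : GL (Fin d) F),
        GeneralLinearGroup.scalar (Fin d) c * x = x * GeneralLinearGroup.scalar (Fin d) c := fun c x => by
      refine Units.ext (Matrix.ext fun i j => ?_)
      simp [GeneralLinearGroup.scalar, Matrix.mul_diagonal, Matrix.diagonal_mul, mul_comm]
    have h : normSeq (GeneralLinearGroup.scalar (Fin d) a) σ (k + 1) =
        GeneralLinearGroup.scalar (Fin d) a * fieldGL σ (GeneralLinearGroup.scalar (Fin d) (normHom σ k a)) := by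
      rw [normSeq, normSeq_scalar]
    rw [← normSeq_scalar, h, normSeq, normSeq_mul_scalar σ g a k, map_mul, normSeq]
    have h2 : g * fieldGL σ (GeneralLinearGroup.scalar (Fin d) (normHom σ k a)) =
        fieldGL σ (GeneralLinearGroup.scalar (Fin d) (normHom σ k a)) * g := by
      refine Units.ext (Matrix.ext fun i j => ?_)
      simp [GeneralLinearGroup.scalar, fieldGL, Matrix.mul_diagonal, Matrix.diagonal_mul, mul_comm]
    simp only [mul_assoc]
    rw [← mul_assoc g, h2, mul_assoc]

/-- Hilbert 90 for units of a finite field. -/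
theorem exists_div_of_norm_one [Finite F] (σ : RingAut F) {a : Fˣ} (ha : normHom σ (orderOf σ) a = 1) :
    ∃ b : Fˣ, (a : F) * σ b = b := by
  have hN : normSeq (oneByOne a) σ (orderOf σ) = 1 := by rw [oneByOne, normSeq_scalar, ha, map_one]
  obtain ⟨h, hh⟩ := exists_coboundary σ (oneByOne a) hN
  have h1 : oneByOne a * fieldGL σ h = h := by rw [hh, inv_mul_cancel_right]
  have h2 : (oneByOne a * fieldGL σ h).1 0 0 = h.1 0 0 := by rw [h1]
  rw [Units.val_mul, Matrix.mul_apply, Fin.sum_univ_one, oneByOne_val] at h2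
  have h0 : h.1 0 0 ≠ 0 := fun h0 => h.det_ne_zero (by rw [Matrix.det_fin_one]; exact h0)
  exact ⟨Units.mk0 _ h0, h2⟩

/-- The norm onto the fixed field is surjective. -/
theorem exists_norm_eq [Finite F] (σ : RingAut F) {c : Fˣ} (hc : σ c = c) :
    ∃ a : Fˣ, normHom σ (orderOf σ) a = c := by
  classical
  let s : Fˣ →* Fˣ := Units.map (σ : F →* F)
  let ψ : Fˣ →* Fˣ := MonoidHom.mk' (fun x => x / s x) fun x y => by rw [map_mul, mul_div_mul_comm]
  let N := normHom σ (orderOf σ)
  haveI : Finite (RingAut F) := Finite.of_injective (fun τ => ⇑τ) DFunLike.coe_injective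
  have hr0 : 0 < orderOf σ := (isOfFinOrder_of_finite σ).orderOf_pos
  have hfix : ∀ a, σ (N a : F) = N a := by
    intro a
    have h1 : σ (N a : F) = ∏ i ∈ Finset.range (orderOf σ), (σ ^ (i + 1)) (a : F) := by
      rw [normHom_val, map_prod]
      exact Finset.prod_congr rfl fun i _ => by rw [pow_succ', RingAut.mul_apply]
    rw [h1, normHom_val]
    obtain ⟨m, hm⟩ : ∃ m, orderOf σ = m + 1 := ⟨orderOf σ - 1, by omega⟩
    have h2 : σ ^ (m + 1) = 1 := hm ▸ pow_orderOf_eq_one σ
    rw [hm, Finset.prod_range_succ, Finset.prod_range_succ' (fun i => (σ ^ i) (a : F)), h2, pow_zero]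
  have hK : ψ.ker = (MonoidHom.eqLocus s (MonoidHom.id Fˣ)) := by
    ext x
    simp only [ψ, MonoidHom.mem_ker, MonoidHom.mk'_apply, div_eq_one]
    exact ⟨fun h => h.symm, fun h => Eq.symm h⟩
  have hle1 : N.ker ≤ ψ.range := by
    intro a ha
    obtain ⟨b, hb⟩ := exists_div_of_norm_one σ ha
    refine ⟨b, ?_⟩
    simp only [ψ, MonoidHom.mk'_apply, div_eq_iff_eq_mul]
    exact Units.ext hb.symm
  have hle2 : N.range ≤ ψ.ker := by
    rintro _ ⟨a, rfl⟩
    rw [hK]
    exact Units.ext (hfix a)
  have h1 : Nat.card N.range * Nat.card N.ker = Nat.card Fˣ := by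
    rw [← Subgroup.index_ker, Subgroup.index_mul_card]
  have h2 : Nat.card ψ.ker * Nat.card ψ.range = Nat.card Fˣ := by
    rw [← Subgroup.index_ker, Subgroup.card_mul_index]
  have h3 : Nat.card N.ker ≤ Nat.card ψ.range := Nat.le_of_dvd Nat.card_pos (Subgroup.card_dvd_of_le hle1)
  have h4 : Nat.card ψ.ker ≤ Nat.card N.range := by
    by_contra hlt
    push Not at hlt
    have := Nat.mul_lt_mul_of_lt_of_le hlt h3 Nat.card_pos
    rw [h1, h2] at this
    exact lt_irrefl _ this
  have heq := Subgroup.eq_of_le_of_card_ge hle2 h4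
  exact (heq ▸ (show c ∈ ψ.ker by rw [hK]; exact Units.ext hc) : c ∈ N.range)

end CfsgLib.AutPSL
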