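import Cfsg.Agent.AutPSL.CosetGeneral
import Cfsg.Prelude.Def_LieClassical
set_option autoImplicit false

/-!
Involutory graph-field automorphisms: one class, centraliser `PGU`, number of inner classes.
-/

namespace CfsgLib.AutPSL

open Matrix

theorem isCyclic_ringAut (F : Type*) [Field F] [Finite F] : IsCyclic (RingAut F) := by
  obtain ⟨p, hp⟩ := CharP.exists F
  haveI : Fact p.Prime := ⟨CharP.char_is_prime F p⟩
  letI := ZMod.algebra F p
  let eR : (F ≃ₐ[ZMod p] F) ≃* RingAut F :=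
    { toFun := fun a => a.toRingEquiv
      invFun := fun σ => AlgEquiv.ofRingEquiv (f := σ) (fun x => by
        exact RingHom.congr_fun (RingHom.ext_zmod ((σ : F →+* F).comp (algebraMap (ZMod p) F)) (algebraMap (ZMod p) F)) x)
      left_inv := fun a => AlgEquiv.ext fun x => rfl
      right_inv := fun σ => RingEquiv.ext fun x => rfl
      map_mul' := fun a b => rfl }
  exact isCyclic_of_surjective eR.toMonoidHom eR.surjective

theorem ringAut_comm {F : Type*} [Field F] [Finite F] (σ τ : RingAut F) : σ * τ = τ * σ := by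
  haveI := isCyclic_ringAut F
  obtain ⟨z, hz⟩ := IsCyclic.exists_generator (α := RingAut F)
  obtain ⟨i, rfl⟩ := hz σ
  obtain ⟨j, rfl⟩ := hz τ
  exact (Commute.zpow_zpow_self z i j).eq

theorem involution_unique {F : Type*} [Field F] [Finite F] {σ τ : RingAut F} (hσ : σ ≠ 1) (hσ2 : σ * σ = 1)
    (hτ : τ ≠ 1) (hτ2 : τ * τ = 1) : σ = τ := by
  classical
  haveI := isCyclic_ringAut F
  haveI : Finite (RingAut F) := Finite.of_injective (fun e => ⇑e) DFunLike.coe_injective
  have hs : orderOf σ = 2 := orderOf_eq_prime (by rw [sq]; exact hσ2) hσ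
  have ht : orderOf τ = 2 := orderOf_eq_prime (by rw [sq]; exact hτ2) hτ
  letI := Fintype.ofFinite (RingAut F)
  by_contra hne
  have h1 : Finset.card ({σ, τ} : Finset (RingAut F)) ≤
      (Finset.univ.filter fun a : RingAut F => orderOf a = 2).card :=
    Finset.card_le_card fun a ha => by
      rcases Finset.mem_insert.mp ha with rfl | ha
      · simp [hs]
      · rw [Finset.mem_singleton.mp ha]; simp [ht]
  rw [IsCyclic.card_orderOf_eq_totient (hs ▸ orderOf_dvd_card), Finset.card_pair hne, Nat.totient_two] at h1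
  omega

variable {F : Type*} [Field F] {n : ℕ}

theorem mem_GU_iff (s : F →+* F) (q : ℕ) (hσ : ∀ x, s x = x ^ q) (hσ2 : ∀ x, s (s x) = x) (g : GL (Fin n) F) :
    g ∈ Cfsg.GU n F q ↔ CfsgLib.Unitary.adj s g.1 * g.1 = 1 := by
  set M := g.1 with hM
  have key : ∀ u v : Fin n → F, (M *ᵥ u) ⬝ᵥ (s ∘ (M *ᵥ v)) = u ⬝ᵥ ((Mᵀ * M.map s) *ᵥ (s ∘ v)) := by
    intro u v
    have h1 : s ∘ (M *ᵥ v) = M.map s *ᵥ (s ∘ v) := funext fun i => RingHom.map_mulVec s M v i
    rw [h1, ← Matrix.vecMul_transpose, ← Matrix.dotProduct_mulVec, Matrix.mulVec_mulVec]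
  have hflip : (Mᵀ * M.map s = 1) ↔ CfsgLib.Unitary.adj s M * M = 1 := by
    have h : (Mᵀ * M.map s).map s = CfsgLib.Unitary.adj s M * M := by
      rw [Matrix.map_mul, CfsgLib.Unitary.adj, Matrix.transpose_map]
      congr 1
      ext i j
      simp [hσ2]
    constructor
    · intro h1
      rw [← h, h1, Matrix.map_one _ (map_zero s) (map_one s)]
    · intro h1
      apply Matrix.map_injective s.injective
      show (Mᵀ * M.map s).map s = (1 : Matrix (Fin n) (Fin n) F).map s
      rw [h, h1, Matrix.map_one _ (map_zero s) (map_one s)]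
  rw [← hflip]
  constructor
  · intro hg
    ext i j
    have h := hg (Pi.single i 1) (Pi.single j 1)
    have hs : s ∘ (Pi.single j (1 : F) : Fin n → F) = Pi.single j 1 := by
      ext k
      simp [Pi.single_apply, apply_ite s]
    rw [CfsgLib.Unitary.hermForm_eq s q hσ, CfsgLib.Unitary.hermForm_eq s q hσ] at h
    change (M *ᵥ _) ⬝ᵥ (s ∘ (M *ᵥ _)) = _ at h
    rw [key, hs, single_dotProduct, Matrix.mulVec_single, one_mul, single_dotProduct, one_mul] at h
    simpa [Matrix.one_apply, Pi.single_apply, eq_comm] using h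
  · intro h u v
    rw [CfsgLib.Unitary.hermForm_eq s q hσ, CfsgLib.Unitary.hermForm_eq s q hσ]
    show (M *ᵥ u) ⬝ᵥ (s ∘ (M *ᵥ v)) = _
    rw [key, h, Matrix.one_mulVec]

theorem graphField_mul_conjPSL (σ : RingAut F) (g : GL (Fin n) F) :
    fieldPSL σ * graphPSL * conjPSL g = conjPSL (fieldGL σ (graphGL g)) * (fieldPSL σ * graphPSL) := by
  rw [mul_assoc, graphPSL_mul_conjPSL, ← mul_assoc, fieldPSL_mul_conjPSL, mul_assoc]

theorem fieldGL_graphGL_val (σ : RingAut F) (g : GL (Fin n) F) :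
    (fieldGL σ (graphGL g)).1 = CfsgLib.Unitary.adj (σ : F →+* F) (g⁻¹ : GL (Fin n) F).1 :=
  Matrix.transpose_map.symm

theorem graphField_commute_iff (hn : 2 ≤ n) (σ : RingAut F) (g : GL (Fin n) F) :
    conjPSL g * (fieldPSL σ * graphPSL) = fieldPSL σ * graphPSL * conjPSL g ↔
      ∃ c : F, CfsgLib.Unitary.adj (σ : F →+* F) g.1 * g.1 = c • (1 : Matrix (Fin n) (Fin n) F) := by
  have hinv : ((fieldGL σ (graphGL g))⁻¹ : GL (Fin n) F).1 = CfsgLib.Unitary.adj (σ : F →+* F) g.1 := by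
    rw [← map_inv]
    exact Matrix.transpose_map.symm
  rw [graphField_mul_conjPSL, mul_left_inj, eq_comm]
  constructor
  · intro h
    obtain ⟨c, hc⟩ := (conjPSL_eq_one_iff hn).mp
      (show conjPSL ((fieldGL σ (graphGL g))⁻¹ * g) = 1 by rw [map_mul, map_inv, h, inv_mul_cancel])
    exact ⟨c, by rw [← hinv, ← Units.val_mul]; exact hc⟩
  · rintro ⟨c, hc⟩
    have h1 : conjPSL ((fieldGL σ (graphGL g))⁻¹ * g) = 1 :=
      conjPSL_eq_one_of_scalar (a := c) (by rw [Units.val_mul, hinv, hc])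
    rw [map_mul, map_inv, inv_mul_eq_one] at h1
    exact h1

variable [Finite F]

/-- An element commuting with `φ ι` is a scalar times a unitary matrix. -/
theorem exists_unitary_of_commute (hn : 2 ≤ n) {σ : RingAut F} (hσ : σ ≠ 1) (hσ2 : σ * σ = 1) {g : GL (Fin n) F}
    (h : conjPSL g * (fieldPSL σ * graphPSL) = fieldPSL σ * graphPSL * conjPSL g) :
    ∃ (u : GL (Fin n) F) (w : F), CfsgLib.Unitary.adj (σ : F →+* F) u.1 * u.1 = 1 ∧ g.1 = w • u.1 := by
  haveI : NeZero n := ⟨by omega⟩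
  set s : F →+* F := (σ : F →+* F) with hs
  have hs2 : ∀ x, s (s x) = x := fun x => RingEquiv.congr_fun hσ2 x
  obtain ⟨c, hc⟩ := (graphField_commute_iff hn σ g).mp h
  have hc0 : c ≠ 0 := by
    rintro rfl
    rw [zero_smul] at hc
    have hd := congrArg Matrix.det hc
    rw [Matrix.det_mul, Matrix.det_zero, CfsgLib.Unitary.adj, Matrix.det_transpose, ← RingHom.mapMatrix_apply,
      ← RingHom.map_det, mul_eq_zero] at hd
    exact hd.elim ((map_ne_zero s).mpr g.det_ne_zero) g.det_ne_zero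
  have hcs : s c = c := by
    have h1 := congrArg (CfsgLib.Unitary.adj s) hc
    rw [CfsgLib.Unitary.adj_mul, CfsgLib.Unitary.adj_adj s hs2, hc, CfsgLib.Unitary.adj_smul,
      CfsgLib.Unitary.adj_one] at h1
    have h2 := congrFun (congrFun h1 0) 0
    simpa using h2.symm
  obtain ⟨w, hw0, hw⟩ := CfsgLib.Hermitian.exists_norm (toRingHom_ne_id hσ) hs2 hc0 hcs
  refine ⟨GeneralLinearGroup.mkOfDetNeZero (w⁻¹ • g.1) ?_, w, ?_, ?_⟩
  · rw [Matrix.det_smul]; exact mul_ne_zero (pow_ne_zero _ (inv_ne_zero hw0)) g.det_ne_zero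
  · change CfsgLib.Unitary.adj s (w⁻¹ • g.1) * (w⁻¹ • g.1) = 1
    rw [CfsgLib.Unitary.adj_smul, Matrix.smul_mul, Matrix.mul_smul, hc, smul_smul, smul_smul, map_inv₀,
      ← mul_inv, hw, inv_mul_cancel₀ hc0, one_smul]
  · change g.1 = w • (w⁻¹ • g.1)
    rw [smul_smul, mul_inv_cancel₀ hw0, one_smul]

/-- The centraliser of `φ ι` is `PGU`. -/
theorem graphField_centralizer_equiv (hn : 2 ≤ n) {σ : RingAut F} (hσ : σ ≠ 1) (hσ2 : σ * σ = 1) (q : ℕ)
    (hq : ∀ x, σ x = x ^ q) :
    Nonempty (↥((conjPSL (F := F) (n := n)).range ⊓ Subgroup.centralizer {fieldPSL σ * graphPSL}) ≃*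
      Cfsg.PGU n F q) := by
  have hmem : ∀ g : GL (Fin n) F, g ∈ Cfsg.GU n F q ↔ CfsgLib.Unitary.adj (σ : F →+* F) g.1 * g.1 = 1 :=
    mem_GU_iff (σ : F →+* F) q hq fun x => RingEquiv.congr_fun hσ2 x
  let ψ : ↥(Cfsg.GU n F q) →* ↥((conjPSL (F := F) (n := n)).range ⊓ Subgroup.centralizer {fieldPSL σ * graphPSL}) :=
    (conjPSL.comp (Cfsg.GU n F q).subtype).codRestrict _ fun g => ⟨⟨_, rfl⟩,
      Subgroup.mem_centralizer_singleton_iff.mpr
        ((graphField_commute_iff hn σ _).mpr ⟨1, by rw [one_smul]; exact (hmem _).mp g.2⟩)⟩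
  have hs : Function.Surjective ψ := by
    rintro ⟨_, ⟨g, rfl⟩, hg⟩
    obtain ⟨u, w, hu, e⟩ := exists_unitary_of_commute hn hσ hσ2 (Subgroup.mem_centralizer_singleton_iff.mp hg)
    exact ⟨⟨u, (hmem u).mpr hu⟩, Subtype.ext (conjPSL_eq_of_smul e).symm⟩
  have hk : ψ.ker = (Cfsg.Geo.scalars (Fin n) F).subgroupOf (Cfsg.GU n F q) := by
    ext g
    rw [MonoidHom.mem_ker, Subtype.ext_iff, Subgroup.mem_subgroupOf, Cfsg.Geo.mem_scalars_iff]
    change conjPSL g.1 = 1 ↔ _
    rw [conjPSL_eq_one_iff hn]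
    constructor
    · rintro ⟨a, ha⟩
      haveI : NeZero n := ⟨by omega⟩
      have ha0 : a ≠ 0 := by
        rintro rfl
        rw [zero_smul] at ha
        exact Units.ne_zero g.1 ha
      exact ⟨Units.mk0 a ha0, ha⟩
    · rintro ⟨c, hc⟩
      exact ⟨c, hc⟩
  exact ⟨((QuotientGroup.quotientMulEquivOfEq hk.symm).trans
    (QuotientGroup.quotientKerEquivOfSurjective ψ hs)).symm⟩

theorem ker_pow_eq_range {G : Type*} [CommGroup G] [IsCyclic G] [Finite G] {k : ℕ} (hk : k ∣ Nat.card G) :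
    (powMonoidHom k : G →* G).ker = (powMonoidHom (Nat.card G / k)).range := by
  have hle : (powMonoidHom (Nat.card G / k) : G →* G).range ≤ (powMonoidHom k).ker := by
    rintro _ ⟨x, rfl⟩
    rw [MonoidHom.mem_ker, powMonoidHom_apply, powMonoidHom_apply, ← pow_mul, Nat.div_mul_cancel hk, pow_card_eq_one']
  refine (Subgroup.eq_of_le_of_card_ge hle (le_of_eq ?_)).symm
  rw [IsCyclic.card_powMonoidHom_ker, Nat.gcd_eq_right hk, IsCyclic.card_powMonoidHom_range,
    Nat.gcd_eq_right (Nat.div_dvd_of_dvd hk), Nat.div_div_self hk Nat.card_pos.ne']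

/-- The number of inner classes in the class of `φ ι`. -/
theorem graphField_splitClassCount [Fintype F] (hn : 3 ≤ n) {σ : RingAut F} (hσ : σ ≠ 1) (hσ2 : σ * σ = 1) (q : ℕ)
    (hq : ∀ x, σ x = x ^ q) (hcard : Fintype.card F = q ^ 2) :
    Cfsg.splitClassCount (conjPSL (F := F) (n := n)).range (Cfsg.Inn (ProjectiveSpecialLinearGroup (Fin n) F))
      (fieldPSL σ * graphPSL) = Nat.gcd n (q - 1) := by
  classical
  haveI : NeZero n := ⟨by omega⟩
  have hq2 : 2 ≤ q := by
    have h1 : 1 < q ^ 2 := hcard ▸ Fintype.one_lt_card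
    by_contra h
    interval_cases q <;> simp at h1
  let P : Subgroup Fˣ := (powMonoidHom n : Fˣ →* Fˣ).range ⊔ (powMonoidHom (q + 1)).ker
  let π : GL (Fin n) F →* Fˣ ⧸ P := (QuotientGroup.mk' P).comp GeneralLinearGroup.det
  have hπ : (conjPSL (F := F) (n := n)).rangeRestrict.ker ≤ π.ker := by
    intro g hg
    rw [MonoidHom.ker_rangeRestrict, MonoidHom.mem_ker] at hg
    obtain ⟨a, ha⟩ := (conjPSL_eq_one_iff (by omega)).mp hg
    have hdet : (GeneralLinearGroup.det g : F) = a ^ n := by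
      change g.1.det = _
      rw [ha, Matrix.det_smul, Matrix.det_one, mul_one, Fintype.card_fin]
    have ha0 : a ≠ 0 := by
      rintro rfl
      rw [zero_pow (NeZero.ne n)] at hdet
      exact (GeneralLinearGroup.det g).ne_zero hdet
    exact (QuotientGroup.eq_one_iff _).mpr (Subgroup.mem_sup_left ⟨Units.mk0 a ha0, Units.ext hdet.symm⟩)
  let θ := MonoidHom.liftOfSurjective (conjPSL (F := F) (n := n)).rangeRestrict
    (MonoidHom.rangeRestrict_surjective _) ⟨π, hπ⟩
  have hθ : ∀ g, θ ((conjPSL (F := F) (n := n)).rangeRestrict g) = π g := fun g =>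
    MonoidHom.liftOfRightInverse_comp_apply _ _ (Function.rightInverse_surjInv _) ⟨π, hπ⟩ g
  haveI := range_conjPSL_normal (F := F) (show 2 ≤ n by omega)
  rw [splitClassCount_eq_card (A := Fˣ ⧸ P) _ _ _ inn_le_range θ ?_ ?_]
  · rw [← Subgroup.index_eq_card]
    have hk : (q + 1) ∣ Nat.card Fˣ := by
      rw [Nat.card_units, Nat.card_eq_fintype_card, hcard]
      exact Dvd.intro (q - 1) (by rw [← Nat.sq_sub_sq, one_pow])
    have hdiv : Nat.card Fˣ / (q + 1) = q - 1 := by
      rw [Nat.card_units, Nat.card_eq_fintype_card, hcard]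
      refine Nat.div_eq_of_eq_mul_right (by omega) ?_
      rw [← Nat.sq_sub_sq, one_pow]
    change ((powMonoidHom n : Fˣ →* Fˣ).range ⊔ (powMonoidHom (q + 1)).ker).index = _
    rw [ker_pow_eq_range hk, hdiv, cyclic_range_pow_sup, IsCyclic.index_powMonoidHom_range]
    exact Nat.gcd_eq_right ((Nat.gcd_dvd_right _ _).trans (hdiv ▸ Nat.div_dvd_of_dvd hk))
  · intro a
    obtain ⟨a, rfl⟩ := QuotientGroup.mk_surjective a
    obtain ⟨g, rfl⟩ := detHom_surjective (n := n) a
    exact ⟨_, hθ g⟩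
  · intro h
    obtain ⟨g, rfl⟩ := MonoidHom.rangeRestrict_surjective _ h
    rw [hθ]
    constructor
    · intro hg
      obtain ⟨_, ⟨a, rfl⟩, b, hb, hab⟩ := Subgroup.mem_sup.mp ((QuotientGroup.eq_one_iff _).mp hg)
      have hb' : (b : F) ^ (q + 1) = 1 := by
        rw [MonoidHom.mem_ker, powMonoidHom_apply] at hb
        rw [← Units.val_pow_eq_pow_val, hb, Units.val_one]
      let d : Fin n → F := Function.update 1 0 (b : F)
      have hd : (Matrix.diagonal d).det = b := by
        rw [Matrix.det_diagonal, Finset.prod_update_of_mem (Finset.mem_univ _)]; simp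
      set u := GeneralLinearGroup.mkOfDetNeZero (Matrix.diagonal d) (by rw [hd]; exact b.ne_zero) with hu
      have huU : CfsgLib.Unitary.adj (σ : F →+* F) u.1 * u.1 = 1 := by
        change CfsgLib.Unitary.adj (σ : F →+* F) (Matrix.diagonal d) * Matrix.diagonal d = 1
        rw [CfsgLib.Unitary.adj, Matrix.diagonal_map (map_zero _), Matrix.diagonal_transpose,
          Matrix.diagonal_mul_diagonal, ← Matrix.diagonal_one]
        congr 1
        funext i
        simp only [Function.comp_apply, d, Function.update_apply, Pi.one_apply]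
        split_ifs
        · change σ (b : F) * (b : F) = 1
          rw [hq, ← pow_succ, hb']
        · simp
      refine ⟨_, conjPSL_mem_inn_of_det (g * u⁻¹) ⟨a, ?_⟩, conjPSL u, ⟨⟨_, rfl⟩,
        Subgroup.mem_centralizer_singleton_iff.mpr
          ((graphField_commute_iff (by omega) σ u).mpr ⟨1, by rw [one_smul]; exact huU⟩)⟩, ?_⟩
      · rw [map_mul, map_inv, ← hab, show GeneralLinearGroup.det u = b from Units.ext hd, mul_inv_cancel_right]
      · rw [← map_mul, inv_mul_cancel_right]; rfl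
    · rintro ⟨_, ⟨y, rfl⟩, _, ⟨⟨g₁, rfl⟩, hc⟩, e⟩
      obtain ⟨s, rfl⟩ := proj_surjective y
      obtain ⟨u, w, hu, hg₁⟩ := exists_unitary_of_commute (by omega) hσ hσ2
        (Subgroup.mem_centralizer_singleton_iff.mp hc)
      have e' : conjPSL g = conjPSL (SpecialLinearGroup.toGL s * u) := by
        rw [map_mul, conjPSL_toGL, ← conjPSL_eq_of_smul hg₁]
        exact e
      rw [← hθ, show (conjPSL (F := F) (n := n)).rangeRestrict g = (conjPSL (F := F) (n := n)).rangeRestrict
          (SpecialLinearGroup.toGL s * u) from Subtype.ext e', hθ]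
      refine (QuotientGroup.eq_one_iff _).mpr (Subgroup.mem_sup_right ?_)
      rw [map_mul, show GeneralLinearGroup.det (SpecialLinearGroup.toGL s) = 1 from Units.ext s.2, one_mul,
        MonoidHom.mem_ker, powMonoidHom_apply]
      refine Units.ext ?_
      have h1 := congrArg Matrix.det hu
      rw [Matrix.det_mul, Matrix.det_one, CfsgLib.Unitary.adj, Matrix.det_transpose, ← RingHom.mapMatrix_apply,
        ← RingHom.map_det] at h1
      change σ u.1.det * u.1.det = 1 at h1
      rw [hq, ← pow_succ] at h1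
      rw [Units.val_pow_eq_pow_val, Units.val_one]
      exact h1

end CfsgLib.AutPSL
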